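import Cfsg.Agent.Lib.Sporadic.LyG2Five.MatCheck0
import Cfsg.Agent.Lib.Sporadic.LyG2Five.MatCheck1
import Cfsg.Agent.Lib.Sporadic.LyG2Five.MatCheck2
import Cfsg.Agent.Lib.Sporadic.LyG2Five.MatCheck3
import Cfsg.Agent.Lib.Sporadic.LyG2Five.MatCheck4

/-!
# The presented Lyons group has a representation of degree 111 in which `a` is not trivial
-/

set_option autoImplicit false
set_option maxRecDepth 100000

namespace CfsgLib.Sporadic.CosetCert.LyG2Five

open WideMatrix Cfsg.Spor

attribute [local irreducible] WideMatrix.mul okRows prodW oneW lane dec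
  m_a m_ai m_b m_bi m_c m_ci m_d m_di m_e m_z m_zi m_c5 m_c5i

/-- Matrices of degree 111. -/
abbrev M111 : Type := Matrix (Fin 111) (Fin 111) (ZMod 5)

/-- The matrix of packed rows. -/
noncomputable def md111 (A : List ℕ) : M111 := dec 111 A

theorem isOne111_spec {L : List (List ℕ)} (hL : ∀ B ∈ L, okRows 111 B = true) (h : isOne111 L = true) :
    (L.map md111).prod = 1 :=
  WideMatrix.isOne_spec (by norm_num) (by norm_num) hL h

theorem ok_lett111 (x : ℕ) (hx : x < 13) : okRows 111 (lett111 x) = true := ok111 x hx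

theorem md111_id : md111 idRows = 1 := by
  ext i j
  unfold md111 dec
  rw [idRows_spec.2 i j, Matrix.one_apply]
  split <;> simp

theorem ok_all111 (x : ℕ) : okRows 111 (lett111 x) = true := by
  by_cases hx : x < 13
  · exact ok111 x hx
  · rw [lett111, List.getD_eq_default _ _ (by simpa using hx)]; exact idRows_spec.1

theorem inv111_spec {A B : List ℕ} (hA : okRows 111 A = true) (hB : okRows 111 B = true)
    (h : isOne111 [A, B] = true) : md111 A * md111 B = 1 := by
  simpa using isOne111_spec (by simp [hA, hB]) h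

/-- The seven matrices. -/
noncomputable def u111 : G7 → M111ˣ
  | .a => ⟨md111 m_a, md111 m_ai, inv111_spec (ok_lett111 0 (by norm_num)) (ok_lett111 1 (by norm_num)) inv111.1,
      inv111_spec (ok_lett111 1 (by norm_num)) (ok_lett111 0 (by norm_num)) inv111.2.1⟩
  | .b => ⟨md111 m_b, md111 m_bi, inv111_spec (ok_lett111 2 (by norm_num)) (ok_lett111 3 (by norm_num)) inv111.2.2.1,
      inv111_spec (ok_lett111 3 (by norm_num)) (ok_lett111 2 (by norm_num)) inv111.2.2.2.1⟩
  | .c => ⟨md111 m_c, md111 m_ci, inv111_spec (ok_lett111 4 (by norm_num)) (ok_lett111 5 (by norm_num)) inv111.2.2.2.2.1,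
      inv111_spec (ok_lett111 5 (by norm_num)) (ok_lett111 4 (by norm_num)) inv111.2.2.2.2.2.1⟩
  | .d => ⟨md111 m_d, md111 m_di, inv111_spec (ok_lett111 6 (by norm_num)) (ok_lett111 7 (by norm_num)) inv111.2.2.2.2.2.2.1,
      inv111_spec (ok_lett111 7 (by norm_num)) (ok_lett111 6 (by norm_num)) inv111.2.2.2.2.2.2.2.1⟩
  | .e => ⟨md111 m_e, md111 m_e, inv111_spec (ok_lett111 8 (by norm_num)) (ok_lett111 8 (by norm_num)) inv111.2.2.2.2.2.2.2.2.1,
      inv111_spec (ok_lett111 8 (by norm_num)) (ok_lett111 8 (by norm_num)) inv111.2.2.2.2.2.2.2.2.1⟩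
  | .z => ⟨md111 m_z, md111 m_zi, inv111_spec (ok_lett111 9 (by norm_num)) (ok_lett111 10 (by norm_num)) inv111.2.2.2.2.2.2.2.2.2.1,
      inv111_spec (ok_lett111 10 (by norm_num)) (ok_lett111 9 (by norm_num)) inv111.2.2.2.2.2.2.2.2.2.2.1⟩
  | .c5 => ⟨md111 m_c5, md111 m_c5i, inv111_spec (ok_lett111 11 (by norm_num)) (ok_lett111 12 (by norm_num)) inv111.2.2.2.2.2.2.2.2.2.2.2.1,
      inv111_spec (ok_lett111 12 (by norm_num)) (ok_lett111 11 (by norm_num)) inv111.2.2.2.2.2.2.2.2.2.2.2.2⟩

/-- Thirteen letters. -/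
noncomputable def g13 : ℕ → M111ˣ := fun x =>
  [u111 .a, (u111 .a)⁻¹, u111 .b, (u111 .b)⁻¹, u111 .c, (u111 .c)⁻¹, u111 .d, (u111 .d)⁻¹, u111 .e,
    u111 .z, (u111 .z)⁻¹, u111 .c5, (u111 .c5)⁻¹].getD x 1

theorem g13_val (x : ℕ) : (g13 x).val = md111 (lett111 x) := by
  match x with
  | 0 => rfl
  | 1 => rfl
  | 2 => rfl
  | 3 => rfl
  | 4 => rfl
  | 5 => rfl
  | 6 => rfl
  | 7 => rfl
  | 8 => rfl
  | 9 => rfl
  | 10 => rfl
  | 11 => rfl
  | 12 => rfl
  | k + 13 => exact md111_id.symm

theorem rels_all {i : ℕ} (hi : i < 86) :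
    isOne111 ((word7 (Ly.extra.getD i 1)).reverse.map lett111) = true := by
  by_cases h0 : i < 25
  · simpa using relsOn0 i (by omega)
  by_cases h1 : i < 45
  · simpa [show 25 + (i - 25) = i by omega] using relsOn1 (i - 25) (by omega)
  by_cases h2 : i < 82
  · simpa [show 45 + (i - 45) = i by omega] using relsOn2 (i - 45) (by omega)
  by_cases h3 : i < 84
  · simpa [show 82 + (i - 82) = i by omega] using relsOn3 (i - 82) (by omega)
  · simpa [show 84 + (i - 84) = i by omega] using relsOn4 (i - 84) (by omega)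

theorem rels111 : ∀ r ∈ coxRelators Ly.edges ∪ {r | r ∈ Ly.extra},
    FreeGroup.lift (fun x => FreeGroup.lift u111 (sub7 x)) r = 1 := by
  rintro r (⟨a, ha, -⟩ | hr)
  · exact absurd ha (by simp [coxNodes, Ly.edges])
  obtain ⟨i, hi, rfl⟩ := List.mem_iff_getElem.1 (Set.mem_ofPred_eq ▸ hr : r ∈ Ly.extra)
  rw [← lift_lift, lift_eq_appProd u111 g13 code7 cinv7 (fun x => by cases x <;> rfl)
      (fun x => by cases x <;> first | rfl | exact Units.ext rfl),
    ← List.getD_eq_getElem _ 1 hi]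
  apply Units.ext
  have hv : ∀ L : List ℕ, (appProd g13 L).val = (L.reverse.map fun x => md111 (lett111 x)).prod := by
    intro L
    induction L with
    | nil => rfl
    | cons x t ih => simp [appProd, ih, g13_val]
  rw [hv]
  have := isOne111_spec (L := (word7 (Ly.extra.getD i 1)).reverse.map lett111) (by
    intro B hB; obtain ⟨x, -, rfl⟩ := List.mem_map.1 hB; exact ok_all111 x) (rels_all hi)
  rw [List.map_map] at this
  exact this

theorem a_ne_one : (PresentedGroup.of Ly.Gen.a :
    PresentedGroup (coxRelators Ly.edges ∪ {r | r ∈ Ly.extra})) ≠ 1 := by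
  intro h
  have h2 := congrArg (PresentedGroup.toGroup rels111) h
  rw [PresentedGroup.toGroup.of, map_one] at h2
  have h3 : md111 m_a = 1 := by
    have := congrArg Units.val h2
    simpa [sub7, u111] using this
  have h4 := congrFun (congrFun h3 0) 1
  unfold md111 dec at h4
  rw [show (((1 : Fin 111) : ℕ)) = 1 from rfl, show (((0 : Fin 111) : ℕ)) = 0 from rfl,
    show m_a = lett111 0 from rfl, a_entry, Matrix.one_apply_ne (by decide)] at h4
  exact absurd h4 (by decide)

end CfsgLib.Sporadic.CosetCert.LyG2Five
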