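import Cfsg.Agent.Lib.Sporadic.LyG2Five.CertPData

/-!
# Coset enumeration certificate LyG2Five.certP, checks 2

Machine-generated data and the kernel checks on it.
-/

set_option maxRecDepth 100000

namespace CfsgLib.Sporadic.CosetCert.LyG2Five

theorem certP_keys8 : certP.keysOK 24000 3000 = true := by decide +kernel
theorem certP_keys9 : certP.keysOK 27000 3000 = true := by decide +kernel
theorem certP_keys10 : certP.keysOK 30000 3000 = true := by decide +kernel
theorem certP_keys11 : certP.keysOK 33000 3000 = true := by decide +kernel

end CfsgLib.Sporadic.CosetCert.LyG2Five
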