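import Cfsg.Agent.Lib.Sporadic.LyG2Five.CertPCheck0
import Cfsg.Agent.Lib.Sporadic.LyG2Five.CertPCheck1
import Cfsg.Agent.Lib.Sporadic.LyG2Five.CertPCheck2
import Cfsg.Agent.Lib.Sporadic.LyG2Five.CertPCheck3

/-!
# Coset enumeration certificate LyG2Five.certP

Machine-generated data and the kernel checks on it.
-/

set_option maxRecDepth 100000

namespace CfsgLib.Sporadic.CosetCert.LyG2Five


theorem certP_valid : certP.Valid :=
  valid_of
    (fun k hk => (range_split (range_split (range_split (range_split (range_split (range_split (range_split (range_split (range_split (range_split (range_split (range_split (range_split (keysOK_spec certP_keys0) (keysOK_spec certP_keys1)) (keysOK_spec certP_keys2)) (keysOK_spec certP_keys3)) (keysOK_spec certP_keys4)) (keysOK_spec certP_keys5)) (keysOK_spec certP_keys6)) (keysOK_spec certP_keys7)) (keysOK_spec certP_keys8)) (keysOK_spec certP_keys9)) (keysOK_spec certP_keys10)) (keysOK_spec certP_keys11)) (keysOK_spec certP_keys12)) (keysOK_spec certP_keys13)) k (Nat.zero_le _) hk)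
    (fun u hu => ⟨35310, (range_split (closedFrom_spec certP_closed0) (closedFrom_spec certP_closed1)) u (Nat.zero_le _) hu⟩)
    (by decide +kernel) (by decide +kernel)

end CfsgLib.Sporadic.CosetCert.LyG2Five
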