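import Cfsg.Prelude.Def_Spor_Ly
import Cfsg.Agent.Lib.Sporadic.CosetCertCox

/-!
# The first 44 relations of the presented Lyons group in five letters, and all of them in seven

The auxiliary generators are replaced by the words that define them.
-/

set_option autoImplicit false
set_option maxRecDepth 100000

namespace CfsgLib.Sporadic.CosetCert.LyG2Five

open Cfsg.Spor

/-- The letters `a, b, c, d, e`. -/
inductive G5 | a | b | c | d | e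
  deriving DecidableEq

/-- The generators as words in five letters; the generators not needed go to one. -/
def sub5 : Ly.Gen → FreeGroup G5
  | .a => FreeGroup.of .a
  | .b => FreeGroup.of .b
  | .c => FreeGroup.of .c
  | .d => FreeGroup.of .d
  | .e => FreeGroup.of .e
  | .c1 => FreeGroup.of .c
  | .c2 => (FreeGroup.of .a)⁻¹ * FreeGroup.of .c * FreeGroup.of .a
  | .c3 => (FreeGroup.of .b)⁻¹ * FreeGroup.of .c * FreeGroup.of .b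
  | .c4 => FreeGroup.of .b * FreeGroup.of .c * (FreeGroup.of .b)⁻¹
  | .c5 => (FreeGroup.of .c)⁻¹ * ((FreeGroup.of .a)⁻¹ * (FreeGroup.of .c)⁻¹ * FreeGroup.of .a) *
      FreeGroup.of .c * ((FreeGroup.of .a)⁻¹ * FreeGroup.of .c * FreeGroup.of .a)
  | _ => 1

/-- The letters `a, b, c, d, e, z, c5`. -/
inductive G7 | a | b | c | d | e | z | c5
  deriving DecidableEq

/-- The generators as words in seven letters. -/
def sub7 : Ly.Gen → FreeGroup G7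
  | .a => FreeGroup.of .a
  | .b => FreeGroup.of .b
  | .c => FreeGroup.of .c
  | .d => FreeGroup.of .d
  | .e => FreeGroup.of .e
  | .z => FreeGroup.of .z
  | .c5 => FreeGroup.of .c5
  | .c1 => FreeGroup.of .c
  | .c2 => (FreeGroup.of .a)⁻¹ * FreeGroup.of .c * FreeGroup.of .a
  | .c3 => (FreeGroup.of .b)⁻¹ * FreeGroup.of .c * FreeGroup.of .b
  | .c4 => FreeGroup.of .b * FreeGroup.of .c * (FreeGroup.of .b)⁻¹
  | .a1 => (FreeGroup.of G7.a)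
  | .a2 => (((FreeGroup.of G7.b)⁻¹)⁻¹ * (FreeGroup.of G7.a) * ((FreeGroup.of G7.b)⁻¹))
  | .a3 => ((((FreeGroup.of G7.b) ^ 2)⁻¹)⁻¹ * (FreeGroup.of G7.a) * (((FreeGroup.of G7.b) ^ 2)⁻¹))
  | .a4 => (((FreeGroup.of G7.b) ^ 2)⁻¹ * (FreeGroup.of G7.a) * ((FreeGroup.of G7.b) ^ 2))
  | .u => ((FreeGroup.of G7.a) ^ 2)
  | .x23 => (FreeGroup.of G7.d)
  | .x24 => ((FreeGroup.of G7.d)⁻¹)
  | .x25 => (((FreeGroup.of G7.b) ^ 2) * ((FreeGroup.of G7.a)⁻¹) * ((FreeGroup.of G7.b)⁻¹) * ((FreeGroup.of G7.a)⁻¹) * ((FreeGroup.of G7.b) ^ 2) * ((FreeGroup.of G7.c)⁻¹) * (FreeGroup.of G7.a) * (FreeGroup.of G7.c) * ((FreeGroup.of G7.a)⁻¹) * ((FreeGroup.of G7.c)⁻¹) * (FreeGroup.of G7.d) * ((FreeGroup.of G7.c)⁻¹) * ((FreeGroup.of G7.b) ^ 2) * ((FreeGroup.of G7.a)⁻¹) * (FreeGroup.of G7.c) * (FreeGroup.of G7.b))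
  | .x29 => ((FreeGroup.of G7.a) * (FreeGroup.of G7.b) * ((FreeGroup.of G7.a)⁻¹) * ((FreeGroup.of G7.b) ^ 2) * ((FreeGroup.of G7.a)⁻¹) * ((FreeGroup.of G7.b) ^ 2) * ((FreeGroup.of G7.c)⁻¹) * (FreeGroup.of G7.a) * (FreeGroup.of G7.c) * (FreeGroup.of G7.b) * (FreeGroup.of G7.c) * ((FreeGroup.of G7.b)⁻¹) * (FreeGroup.of G7.d) * (FreeGroup.of G7.c) * (((FreeGroup.of G7.b) ^ 2)⁻¹) * (FreeGroup.of G7.d) * (FreeGroup.of G7.c) * (FreeGroup.of G7.b) * (FreeGroup.of G7.c))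
  | .x47 => (((FreeGroup.of G7.c)⁻¹) * ((FreeGroup.of G7.d)⁻¹) * ((FreeGroup.of G7.a)⁻¹) * ((FreeGroup.of G7.c)⁻¹) * ((FreeGroup.of G7.a)⁻¹) * (FreeGroup.of G7.b) * ((FreeGroup.of G7.c)⁻¹) * ((FreeGroup.of G7.d)⁻¹))
  | .x96 => ((FreeGroup.of G7.b) * (FreeGroup.of G7.d))
  | .x129 => (((FreeGroup.of G7.d)⁻¹) * ((FreeGroup.of G7.b)⁻¹))
  | .x162 => (((FreeGroup.of G7.a)⁻¹) * ((FreeGroup.of G7.b)⁻¹) * ((FreeGroup.of G7.a)⁻¹) * (FreeGroup.of G7.b) * ((FreeGroup.of G7.c)⁻¹) * ((FreeGroup.of G7.b)⁻¹) * (FreeGroup.of G7.a) * ((FreeGroup.of G7.c)⁻¹) * (FreeGroup.of G7.b) * (FreeGroup.of G7.a))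
  | .x163 => ((((FreeGroup.of G7.b) ^ 2)⁻¹) * (FreeGroup.of G7.a) * (FreeGroup.of G7.c) * ((FreeGroup.of G7.a)⁻¹) * (FreeGroup.of G7.b) * (FreeGroup.of G7.c) * (FreeGroup.of G7.b))
  | .x164 => (((FreeGroup.of G7.a)⁻¹) * ((FreeGroup.of G7.b)⁻¹) * ((FreeGroup.of G7.a)⁻¹) * (FreeGroup.of G7.c) * (FreeGroup.of G7.a) * (FreeGroup.of G7.b) * (FreeGroup.of G7.a))
  | .x165 => (((FreeGroup.of G7.b)⁻¹) * ((FreeGroup.of G7.a)⁻¹) * (FreeGroup.of G7.b) * (FreeGroup.of G7.c) * ((FreeGroup.of G7.b)⁻¹) * (FreeGroup.of G7.a) * (FreeGroup.of G7.b))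
  | .x166 => (((FreeGroup.of G7.b) ^ 2) * ((FreeGroup.of G7.a)⁻¹) * ((FreeGroup.of G7.b)⁻¹) * (FreeGroup.of G7.c) * (FreeGroup.of G7.b) * (FreeGroup.of G7.a) * (FreeGroup.of G7.c) * (((FreeGroup.of G7.b) ^ 2)⁻¹) * ((FreeGroup.of G7.c)⁻¹))
  | .x167 => (((FreeGroup.of G7.a) ^ 3)⁻¹)
  | .x168 => ((FreeGroup.of G7.b) * ((FreeGroup.of G7.a)⁻¹) * ((FreeGroup.of G7.b)⁻¹) * (((FreeGroup.of G7.a) ^ 2)⁻¹))
  | .x169 => ((FreeGroup.of G7.a) * ((FreeGroup.of G7.b) ^ 2) * (FreeGroup.of G7.a) * (((FreeGroup.of G7.b) ^ 2)⁻¹) * ((FreeGroup.of G7.a)⁻¹))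
  | .x364 => (((FreeGroup.of G7.a)⁻¹) * (FreeGroup.of G7.d) * ((FreeGroup.of G7.b)⁻¹) * ((FreeGroup.of G7.c)⁻¹) * ((FreeGroup.of G7.a)⁻¹) * (FreeGroup.of G7.b) * ((FreeGroup.of G7.c)⁻¹) * ((FreeGroup.of G7.d)⁻¹) * (FreeGroup.of G7.b) * ((FreeGroup.of G7.c)⁻¹) * ((FreeGroup.of G7.b)⁻¹) * ((FreeGroup.of G7.a)⁻¹) * ((FreeGroup.of G7.c)⁻¹) * (FreeGroup.of G7.a) * ((FreeGroup.of G7.b)⁻¹) * (FreeGroup.of G7.a) * (FreeGroup.of G7.b) * (FreeGroup.of G7.a) * ((FreeGroup.of G7.b)⁻¹))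
  | .x365 => ((FreeGroup.of G7.a) * (((FreeGroup.of G7.b) ^ 2)⁻¹) * ((FreeGroup.of G7.a)⁻¹) * (FreeGroup.of G7.c) * (FreeGroup.of G7.b) * ((FreeGroup.of G7.c)⁻¹) * (FreeGroup.of G7.b) * ((FreeGroup.of G7.a)⁻¹) * (((FreeGroup.of G7.c) ^ 2)⁻¹) * (FreeGroup.of G7.d) * (FreeGroup.of G7.c) * (FreeGroup.of G7.a) * (FreeGroup.of G7.c) * ((FreeGroup.of G7.a)⁻¹) * (FreeGroup.of G7.c) * ((FreeGroup.of G7.b)⁻¹) * ((FreeGroup.of G7.d)⁻¹))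
  | .x366 => ((FreeGroup.of G7.b) * (FreeGroup.of G7.a) * ((FreeGroup.of G7.b)⁻¹) * ((FreeGroup.of G7.a)⁻¹) * (((FreeGroup.of G7.b) ^ 2)⁻¹) * ((FreeGroup.of G7.a)⁻¹) * ((FreeGroup.of G7.b)⁻¹) * (FreeGroup.of G7.c) * ((FreeGroup.of G7.b) ^ 2) * (FreeGroup.of G7.c) * (FreeGroup.of G7.b) * (FreeGroup.of G7.d) * (FreeGroup.of G7.c) * (((FreeGroup.of G7.b) ^ 2)⁻¹) * (FreeGroup.of G7.d) * (FreeGroup.of G7.c) * (FreeGroup.of G7.b) * (FreeGroup.of G7.c))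
  | .x367 => (((FreeGroup.of G7.c)⁻¹) * ((FreeGroup.of G7.b)⁻¹) * ((FreeGroup.of G7.c)⁻¹) * ((FreeGroup.of G7.d)⁻¹) * ((FreeGroup.of G7.b) ^ 2) * ((FreeGroup.of G7.c)⁻¹) * ((FreeGroup.of G7.d)⁻¹) * ((FreeGroup.of G7.b)⁻¹) * ((FreeGroup.of G7.c)⁻¹) * (((FreeGroup.of G7.b) ^ 2)⁻¹) * ((FreeGroup.of G7.c)⁻¹) * (FreeGroup.of G7.b) * (FreeGroup.of G7.a) * ((FreeGroup.of G7.b) ^ 2) * (FreeGroup.of G7.a) * (FreeGroup.of G7.b) * ((FreeGroup.of G7.a)⁻¹) * ((FreeGroup.of G7.b)⁻¹))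
  | .x368 => (((FreeGroup.of G7.a)⁻¹) * ((FreeGroup.of G7.c)⁻¹) * ((FreeGroup.of G7.d)⁻¹) * (FreeGroup.of G7.a) * ((FreeGroup.of G7.c)⁻¹) * ((FreeGroup.of G7.b)⁻¹) * (FreeGroup.of G7.a) * ((FreeGroup.of G7.c)⁻¹) * ((FreeGroup.of G7.d)⁻¹) * ((FreeGroup.of G7.a)⁻¹) * ((FreeGroup.of G7.c)⁻¹) * (FreeGroup.of G7.a) * (FreeGroup.of G7.c) * (((FreeGroup.of G7.b) ^ 2)⁻¹) * ((FreeGroup.of G7.c)⁻¹) * ((FreeGroup.of G7.b)⁻¹) * ((FreeGroup.of G7.a)⁻¹) * (((FreeGroup.of G7.b) ^ 2)⁻¹))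
  | .x369 => (((FreeGroup.of G7.a)⁻¹) * ((FreeGroup.of G7.c)⁻¹) * ((FreeGroup.of G7.d)⁻¹) * (FreeGroup.of G7.b) * ((FreeGroup.of G7.a)⁻¹) * ((FreeGroup.of G7.b)⁻¹) * ((FreeGroup.of G7.c)⁻¹) * ((FreeGroup.of G7.d)⁻¹) * (FreeGroup.of G7.b) * ((FreeGroup.of G7.a)⁻¹) * ((FreeGroup.of G7.b)⁻¹) * ((FreeGroup.of G7.c)⁻¹) * ((FreeGroup.of G7.b)⁻¹) * (FreeGroup.of G7.a) * (((FreeGroup.of G7.b) ^ 2)⁻¹) * (FreeGroup.of G7.a) * ((FreeGroup.of G7.b)⁻¹))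
  | .x370 => (((FreeGroup.of G7.d)⁻¹) * (FreeGroup.of G7.a) * (FreeGroup.of G7.c) * (FreeGroup.of G7.b) * (FreeGroup.of G7.c) * ((FreeGroup.of G7.a)⁻¹) * ((FreeGroup.of G7.c)⁻¹) * ((FreeGroup.of G7.d)⁻¹) * (FreeGroup.of G7.a) * ((FreeGroup.of G7.b)⁻¹) * ((FreeGroup.of G7.a)⁻¹) * (FreeGroup.of G7.c) * ((FreeGroup.of G7.a)⁻¹) * (((FreeGroup.of G7.b) ^ 2)⁻¹) * ((FreeGroup.of G7.a)⁻¹) * (FreeGroup.of G7.b) * ((FreeGroup.of G7.a)⁻¹))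
  | .x371 => (((FreeGroup.of G7.c)⁻¹) * ((FreeGroup.of G7.a)⁻¹) * (FreeGroup.of G7.c) * (FreeGroup.of G7.b) * ((FreeGroup.of G7.c)⁻¹) * ((FreeGroup.of G7.d)⁻¹) * (FreeGroup.of G7.c) * ((FreeGroup.of G7.a)⁻¹) * (FreeGroup.of G7.c) * (FreeGroup.of G7.a) * (FreeGroup.of G7.c) * ((FreeGroup.of G7.b)⁻¹) * ((FreeGroup.of G7.a)⁻¹) * ((FreeGroup.of G7.b)⁻¹) * ((FreeGroup.of G7.a)⁻¹) * (FreeGroup.of G7.b))

/-- Codes of the five letters. -/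
def code5 : G5 → ℕ
  | .a => 0 | .b => 2 | .c => 4 | .d => 6 | .e => 8

/-- Codes of the inverses of the five letters. -/
def cinv5 : G5 → ℕ
  | .a => 1 | .b => 3 | .c => 5 | .d => 7 | .e => 8

/-- Codes of the seven letters. -/
def code7 : G7 → ℕ
  | .a => 0 | .b => 2 | .c => 4 | .d => 6 | .e => 8 | .z => 9 | .c5 => 11

/-- Codes of the inverses of the seven letters. -/
def cinv7 : G7 → ℕ
  | .a => 1 | .b => 3 | .c => 5 | .d => 7 | .e => 8 | .z => 10 | .c5 => 12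

/-- The word of a relation in five letters, in order of application. -/
def word5 (r : FreeGroup Ly.Gen) : List ℕ := appWord code5 cinv5 (FreeGroup.lift sub5 r)

/-- The word of a relation in seven letters, in order of application. -/
def word7 (r : FreeGroup Ly.Gen) : List ℕ := appWord code7 cinv7 (FreeGroup.lift sub7 r)

/-- The generators occurring in the first 44 relations. -/
def small : List Ly.Gen := [.a, .b, .c, .d, .e, .c1, .c2, .c3, .c4, .c5]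

theorem support44 : ((Ly.extra.take 44).all fun r => r.toWord.all fun p => decide (p.1 ∈ small)) = true := by
  decide +kernel

theorem lift_congr_support {α G : Type*} [DecidableEq α] [Group G] {f f' : α → G} {S : List α}
    (h : ∀ x ∈ S, f x = f' x) {r : FreeGroup α} (hr : r.toWord.all (fun p => decide (p.1 ∈ S)) = true) :
    FreeGroup.lift f r = FreeGroup.lift f' r := by
  rw [← FreeGroup.mk_toWord (x := r), FreeGroup.lift_mk, FreeGroup.lift_mk]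
  congr 1
  refine List.map_congr_left fun p hp => ?_
  rw [h p.1 (of_decide_eq_true (List.all_eq_true.1 hr p hp))]

theorem lift_lift {α β G : Type*} [Group G] (s : α → FreeGroup β) (f : β → G) (r : FreeGroup α) :
    FreeGroup.lift f (FreeGroup.lift s r) = FreeGroup.lift (fun x => FreeGroup.lift f (s x)) r := by
  induction r using FreeGroup.induction_on with
  | C1 => simp
  | of x => simp
  | inv_of x ih => simp
  | mul x y hx hy => simp [hx, hy]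

end CfsgLib.Sporadic.CosetCert.LyG2Five
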