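import Cfsg.Agent.Lib.Sporadic.HNDouble.Reading
import Cfsg.Agent.Lib.Sporadic.LyG2Five.Subst
import Cfsg.Agent.Lib.Sporadic.LyG2Five.CertL
import Cfsg.Agent.Lib.Sporadic.LyG2Five.CertP

/-!
# An upper bound for groups with the first 44 relations of the presented Lyons group

The parabolic subgroup generated by `a, b, c` has order at most `480 · 5 ^ 5`, and its index is at most 3906.
-/

set_option autoImplicit false
set_option maxRecDepth 100000

namespace CfsgLib.Sporadic.CosetCert.LyG2Five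

open Cfsg.Spor HNDouble
open scoped Pointwise

variable {G : Type*} [Group G]

/-- The relations hold for the images of five letters. -/
def Rels (f : G5 → G) : Prop :=
  ∀ r ∈ Ly.extra.take 44, FreeGroup.lift f (FreeGroup.lift sub5 r) = 1

/-- Nine letters. -/
def g9 (f : G5 → G) : ℕ → G := fun x =>
  [f .a, (f .a)⁻¹, f .b, (f .b)⁻¹, f .c, (f .c)⁻¹, f .d, (f .d)⁻¹, f .e].getD x 1

theorem rel_mem {i : ℕ} (hi : i < 44) : Ly.extra.getD i 1 ∈ Ly.extra.take 44 := by
  have hl : Ly.extra.length = 86 := rfl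
  rw [List.getD_eq_getElem _ _ (by omega), List.mem_iff_getElem]
  exact ⟨i, by rw [List.length_take, hl]; omega, List.getElem_take⟩

variable {f : G5 → G} (h : Rels f)
include h

theorem e_inv : (f .e)⁻¹ = f .e := by
  have h30 := h _ (rel_mem (i := 29) (by norm_num))
  change FreeGroup.lift f (FreeGroup.lift sub5 (Ly.e ^ 2)) = 1 at h30
  simp only [map_pow, FreeGroup.lift_apply_of, sub5] at h30
  exact inv_eq_of_mul_eq_one_right (by rw [← pow_two]; exact h30)

theorem word_eq_one {i : ℕ} (hi : i < 44) :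
    appProd (g9 f) (word5 (Ly.extra.getD i 1)) = 1 := by
  rw [word5, ← lift_eq_appProd f (g9 f) code5 cinv5 (fun x => by cases x <;> rfl)
    (fun x => by cases x <;> first | rfl | exact (e_inv h).symm)]
  exact h _ (rel_mem hi)

omit h in
/-- The indices of the relations of the certificate. -/
def idxP : List ℕ := [0, 1, 2, 3, 4, 10, 11, 12, 13, 14, 15, 16, 17, 18, 19, 20, 21, 22, 23, 24, 25, 26, 27, 28, 30, 31, 32, 33, 34, 35, 36, 37, 38, 39, 40, 41, 42, 43]

omit h in
theorem letters_certP : (List.range certP.words.length).map certP.letters =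
      idxP.map (fun i => word5 (Ly.extra.getD i 1)) ++ [[0], [2], [4]] ∧
    certP.nr = 38 ∧ certP.words.length = 41 ∧ certP.nl = 9 ∧ certP.N = 3906 ∧
    idxP.length = 38 ∧ idxP.all (fun i => Nat.blt i 44) = true ∧
    ((List.range 9).map certP.inv = [1, 0, 3, 2, 5, 4, 7, 6, 8]) := by
  decide +kernel

omit h in
theorem letters_certL : (List.range certL.words.length).map certL.letters =
      (List.range 5).map (fun i => word5 (Ly.extra.getD i 1)) ++ [[0]] ∧
    certL.nr = 5 ∧ certL.words.length = 6 ∧ certL.nl = 4 ∧ certL.N = 60 ∧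
    ((List.range 4).map certL.inv = [1, 0, 3, 2]) := by
  decide +kernel

theorem g9_inv {x : ℕ} (hx : x < 9) :
    g9 f ([1, 0, 3, 2, 5, 4, 7, 6, 8].getD x 0) = (g9 f x)⁻¹ := by
  match x, hx with
  | 0, _ => rfl
  | 1, _ => exact (inv_inv _).symm
  | 2, _ => rfl
  | 3, _ => exact (inv_inv _).symm
  | 4, _ => rfl
  | 5, _ => exact (inv_inv _).symm
  | 6, _ => rfl
  | 7, _ => exact (inv_inv _).symm
  | 8, _ => exact (e_inv h).symm
  | k + 9, c => omega

omit h in
theorem inv_getD {C : Cert} {L : List ℕ} (hL : (List.range C.nl).map C.inv = L) {x : ℕ} (hx : x < C.nl) :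
    C.inv x = L.getD x 0 := by
  subst hL
  rw [List.getD_eq_getElem _ _ (by simpa using hx)]
  simp

theorem reads_P : Reads certP (g9 f) (Subgroup.closure {f .a, f .b, f .c}) := by
  obtain ⟨hl, hnr, hlen, hnl, -, hidx, hlt, hinv⟩ := letters_certP
  have e : ∀ i < certP.words.length, certP.letters i =
      (idxP.map (fun i => word5 (Ly.extra.getD i 1)) ++ [[0], [2], [4]]).getD i [] := by
    intro i hi
    rw [← hl, List.getD_eq_getElem _ _ (by simpa using hi)]
    simp
  refine ⟨by rw [hnl]; rfl, fun x hx => ?_, fun i hi => ?_, fun i hi hge => ?_⟩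
  · rw [hnl] at hx
    rw [inv_getD (L := [1, 0, 3, 2, 5, 4, 7, 6, 8]) (by rw [hnl]; exact hinv) (by rw [hnl]; exact hx)]
    exact g9_inv h hx
  · rw [hnr] at hi
    rw [e i (by omega), List.getD_append _ _ _ _ (by simpa [hidx] using hi),
      List.getD_eq_getElem _ _ (by simpa [hidx] using hi), List.getElem_map]
    exact word_eq_one h (Nat.le_of_ble_eq_true (List.all_eq_true.1 hlt _ (List.getElem_mem _)))
  · rw [hnr] at hge
    rw [hlen] at hi
    rw [e i (by omega), List.getD_append_right _ _ _ _ (by simpa [hidx] using hge), List.length_map, hidx]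
    obtain ⟨k, rfl⟩ := Nat.exists_eq_add_of_le hge
    rw [Nat.add_sub_cancel_left]
    match k, hi with
    | 0, _ => exact Subgroup.subset_closure (by simp [appProd, g9])
    | 1, _ => exact Subgroup.subset_closure (by simp [appProd, g9])
    | 2, _ => exact Subgroup.subset_closure (by simp [appProd, g9])
    | j + 3, c => omega

theorem reads_L : Reads certL (fun x => if x < 4 then g9 f x else 1) (Subgroup.zpowers (f .a)) := by
  obtain ⟨hl, hnr, hlen, hnl, -, hinv⟩ := letters_certL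
  have e : ∀ i < certL.words.length, certL.letters i =
      ((List.range 5).map (fun i => word5 (Ly.extra.getD i 1)) ++ [[0]]).getD i [] := by
    intro i hi
    rw [← hl, List.getD_eq_getElem _ _ (by simpa using hi)]
    simp
  have hlo : ∀ i < 5, (word5 (Ly.extra.getD i 1)).all (fun x => Nat.blt x 4) = true := by decide +kernel
  have congrL : ∀ L : List ℕ, L.all (fun x => Nat.blt x 4) = true →
      appProd (fun x => if x < 4 then g9 f x else 1) L = appProd (g9 f) L := by
    intro L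
    induction L with
    | nil => intro _; rfl
    | cons x t ih =>
      intro hb
      simp only [List.all_cons, Bool.and_eq_true] at hb
      show appProd _ t * (if x < 4 then g9 f x else 1) = _
      rw [ih hb.2, if_pos (show x < 4 from Nat.le_of_ble_eq_true hb.1)]
      rfl
  refine ⟨by rw [hnl]; rfl, fun x hx => ?_, fun i hi => ?_, fun i hi hge => ?_⟩
  · rw [hnl] at hx
    rw [inv_getD (L := [1, 0, 3, 2]) (by rw [hnl]; exact hinv) (by rw [hnl]; exact hx)]
    match x, hx with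
    | 0, _ => rfl
    | 1, _ => exact (inv_inv _).symm
    | 2, _ => rfl
    | 3, _ => exact (inv_inv _).symm
    | k + 4, c => omega
  · rw [hnr] at hi
    rw [e i (by omega), List.getD_append _ _ _ _ (by simpa using hi),
      List.getD_eq_getElem _ _ (by simpa using hi), List.getElem_map, List.getElem_range,
      congrL _ (hlo i hi)]
    exact word_eq_one h (by omega)
  · rw [hlen] at hi
    rw [hnr] at hge
    obtain rfl : i = 5 := by omega
    rw [e 5 (by omega), List.getD_append_right _ _ _ _ (by simp)]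
    exact (show appProd (fun x => if x < 4 then g9 f x else 1) [0] = f .a by simp [appProd, g9]) ▸
      Subgroup.mem_zpowers _

theorem card_L : Nat.card (Subgroup.closure {f .a, f .b}) ≤ 480 ∧
    Nat.card (Subgroup.closure {f .a, f .b}) ≠ 0 := by
  have h1 := (reads_L h).relIndex_le certL_valid (by rw [letters_certL.2.2.2.2.1]; norm_num)
  rw [letters_certL.2.2.2.1, letters_certL.2.2.2.2.1] at h1
  have hc : Subgroup.closure ((fun x => if x < 4 then g9 f x else 1) '' Set.Iio 4) =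
      Subgroup.closure {f .a, f .b} := by
    apply le_antisymm
    · rw [Subgroup.closure_le]
      rintro _ ⟨x, hx, rfl⟩
      have ha : f .a ∈ Subgroup.closure {f .a, f .b} := Subgroup.subset_closure (Or.inl rfl)
      have hb : f .b ∈ Subgroup.closure {f .a, f .b} := Subgroup.subset_closure (Or.inr rfl)
      match x, hx with
      | 0, _ => exact ha
      | 1, _ => exact inv_mem ha
      | 2, _ => exact hb
      | 3, _ => exact inv_mem hb
      | k + 4, c => simp at c
    · rw [Subgroup.closure_le]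
      rintro _ (rfl | rfl)
      · exact Subgroup.subset_closure ⟨0, by norm_num, rfl⟩
      · exact Subgroup.subset_closure ⟨2, by norm_num, rfl⟩
  rw [hc] at h1
  have h8 : (f .a) ^ 8 = 1 := by
    have := h _ (rel_mem (i := 0) (by norm_num))
    change FreeGroup.lift f (FreeGroup.lift sub5 (Ly.a ^ 8)) = 1 at this
    simpa only [map_pow, FreeGroup.lift_apply_of, sub5] using this
  have ha : f .a ∈ Subgroup.closure {f .a, f .b} := Subgroup.subset_closure (Or.inl rfl)
  exact card_le_of_relIndex (Subgroup.zpowers_le.2 ha) h1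
    (HNDouble.card_zpowers_le (n := 8) (by norm_num) h8)

omit h in
/-- Adjoining elements of a subgroup that normalises a finite one multiplies the bound of the order. -/
theorem card_extend {K H : Subgroup G} {m n : ℕ} {S : Set G} (hH : H = Subgroup.closure S)
    (hn : ∀ s ∈ S, ∀ k ∈ K, s * k * s⁻¹ ∈ K) (hK : Nat.card K ≤ m ∧ Nat.card K ≠ 0)
    (hHc : Nat.card H ≤ n ∧ Nat.card H ≠ 0) :
    Nat.card ↥(K ⊔ H) ≤ m * n ∧ Nat.card ↥(K ⊔ H) ≠ 0 := by
  have : Finite K := Nat.finite_of_card_ne_zero hK.2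
  have : Finite H := Nat.finite_of_card_ne_zero hHc.2
  have hle : H ≤ Subgroup.normalizer (K : Set G) := by
    rw [hH, Subgroup.closure_le]
    intro s hs
    have hmap : (K : Set G).MapsTo (fun k => s * k * s⁻¹) K := fun k hk => hn s hs k hk
    have hinj : Set.InjOn (fun k => s * k * s⁻¹) (K : Set G) := fun a _ b _ e =>
      mul_left_cancel (mul_right_cancel e)
    have hsur := ((Set.toFinite (K : Set G)).injOn_iff_bijOn_of_mapsTo hmap).1 hinj |>.surjOn
    rw [SetLike.mem_coe, Subgroup.mem_normalizer_iff]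
    intro k
    refine ⟨fun hk => hn s hs k hk, fun hk => ?_⟩
    obtain ⟨k', hk', e⟩ := hsur hk
    exact mul_left_cancel (mul_right_cancel e) ▸ hk'
  have hset : ((K ⊔ H : Subgroup G) : Set G) = (K : Set G) * (H : Set G) := by
    exact Subgroup.coe_mul_of_right_le_normalizer_left K H hle
  let φ : K × H → ↥(K ⊔ H) := fun p =>
    ⟨p.1 * p.2, mul_mem ((le_sup_left : K ≤ K ⊔ H) p.1.2) ((le_sup_right : H ≤ K ⊔ H) p.2.2)⟩
  have hφ : Function.Surjective φ := by
    rintro ⟨g, hg⟩
    have hg' : g ∈ (K : Set G) * (H : Set G) := hset ▸ hg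
    obtain ⟨k, hk, l, hl, rfl⟩ := hg'
    exact ⟨(⟨k, hk⟩, ⟨l, hl⟩), rfl⟩
  have hfin : Finite ↥(K ⊔ H) := Finite.of_surjective φ hφ
  refine ⟨?_, Nat.card_pos.ne'⟩
  refine le_trans (Nat.card_le_card_of_surjective φ hφ) ?_
  rw [Nat.card_prod]
  exact Nat.mul_le_mul hK.1 hHc.1

omit h in
/-- The images of all generators. -/
def gk (f : G5 → G) (x : Ly.Gen) : G := FreeGroup.lift f (sub5 x)

theorem rel {i : ℕ} (hi : i < 44) {r : FreeGroup Ly.Gen} (e : Ly.extra.getD i 1 = r) :
    FreeGroup.lift (gk f) r = 1 := by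
  subst e
  exact (lift_lift sub5 f _).symm.trans (h _ (rel_mem hi))

omit h in
theorem conj_closure {T : Set G} {s : G} (hT : ∀ t ∈ T, s * t * s⁻¹ ∈ Subgroup.closure T) :
    ∀ k ∈ Subgroup.closure T, s * k * s⁻¹ ∈ Subgroup.closure T := fun _ hk =>
  ((Subgroup.closure_le _).2 (show T ⊆ ((Subgroup.closure T).comap (MulAut.conj s).toMonoidHom : Set G)
    from hT)) hk

omit h in
theorem comm_mem {K : Subgroup G} {x y w : G} (e : x⁻¹ * y⁻¹ * x * y * w⁻¹ = 1) (hx : x ∈ K) (hw : w ∈ K) :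
    y⁻¹ * x * y ∈ K := by
  have e' : y⁻¹ * x * y = x * w := by
    rw [← mul_inv_eq_one.1 e]; group
  rw [e']; exact mul_mem hx hw

omit h in
theorem comm_mem' {K : Subgroup G} {x y : G} (e : x⁻¹ * y⁻¹ * x * y = 1) (hx : x ∈ K) :
    y⁻¹ * x * y ∈ K :=
  comm_mem (w := 1) (by rw [e]; simp) hx (one_mem K)

omit h in
/-- Adjoin an element of order dividing five that normalises. -/
theorem card_insert {T : Set G} {s : G} {m : ℕ} (h5 : s ^ 5 = 1)
    (hn : ∀ t ∈ T, s⁻¹ * t * s ∈ Subgroup.closure T)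
    (hm : Nat.card (Subgroup.closure T) ≤ m ∧ Nat.card (Subgroup.closure T) ≠ 0) :
    Nat.card (Subgroup.closure (insert s T)) ≤ m * 5 ∧ Nat.card (Subgroup.closure (insert s T)) ≠ 0 := by
  have e : Subgroup.closure (insert s T) = Subgroup.closure T ⊔ Subgroup.zpowers s := by
    rw [Set.insert_eq, Subgroup.closure_union, Subgroup.zpowers_eq_closure, sup_comm]
  rw [e]
  refine card_extend (S := {s⁻¹}) ?_ ?_ hm (HNDouble.card_zpowers_le (by norm_num) h5)
  · rw [← Subgroup.zpowers_eq_closure, Subgroup.zpowers_inv]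
  · intro t ht
    rw [Set.mem_singleton_iff] at ht
    subst ht
    exact conj_closure (fun u hu => by rw [inv_inv]; exact hn u hu)

/-- The normal subgroup of `⟨a, b, c⟩`. -/
theorem card_C :
    let k := gk f
    let C := Subgroup.closure ({k .c4, k .c3, k .c2, k .c1, k .c5} : Set G)
    (Nat.card C ≤ 3125 ∧ Nat.card C ≠ 0) ∧
      (∀ x ∈ C, (k .a)⁻¹ * x * k .a ∈ C) ∧ ∀ x ∈ C, (k .b)⁻¹ * x * k .b ∈ C := by
  intro k C
  have r10 := rel h (i := 10) (r := Ly.c1 ^ 5) (by norm_num) rfl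
  have r11 := rel h (i := 11) (r := Ly.c5 ^ 5) (by norm_num) rfl
  have r12 := rel h (i := 12) (r := Ly.c1⁻¹ * Ly.c5⁻¹ * Ly.c1 * Ly.c5) (by norm_num) rfl
  have r13 := rel h (i := 13) (r := Ly.c2⁻¹ * Ly.c5⁻¹ * Ly.c2 * Ly.c5) (by norm_num) rfl
  have r14 := rel h (i := 14) (r := Ly.c3⁻¹ * Ly.c5⁻¹ * Ly.c3 * Ly.c5) (by norm_num) rfl
  have r15 := rel h (i := 15) (r := Ly.c4⁻¹ * Ly.c5⁻¹ * Ly.c4 * Ly.c5) (by norm_num) rfl
  have r16 := rel h (i := 16)
    (r := (Ly.c1⁻¹ * Ly.c3⁻¹ * Ly.c1 * Ly.c3) * (((Ly.c5 ^ 2)⁻¹)⁻¹)) (by norm_num) rfl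
  have r17 := rel h (i := 17)
    (r := (Ly.c1⁻¹ * Ly.c4⁻¹ * Ly.c1 * Ly.c4) * ((Ly.c5 ^ 2)⁻¹)) (by norm_num) rfl
  have r18 := rel h (i := 18)
    (r := (Ly.c2⁻¹ * Ly.c3⁻¹ * Ly.c2 * Ly.c3) * ((Ly.c5⁻¹)⁻¹)) (by norm_num) rfl
  have r19 := rel h (i := 19) (r := Ly.c2⁻¹ * Ly.c4⁻¹ * Ly.c2 * Ly.c4) (by norm_num) rfl
  have r20 := rel h (i := 20)
    (r := (Ly.c3⁻¹ * Ly.c4⁻¹ * Ly.c3 * Ly.c4) * ((Ly.c5⁻¹)⁻¹)) (by norm_num) rfl
  have r21 := rel h (i := 21)
    (r := (Ly.a⁻¹ * Ly.c2 * Ly.a) * (((Ly.c1 ^ 2)⁻¹)⁻¹)) (by norm_num) rfl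
  have r22 := rel h (i := 22)
    (r := (Ly.a⁻¹ * Ly.c3 * Ly.a) * ((((Ly.c3 ^ 2)⁻¹) * Ly.c1 * Ly.c4)⁻¹)) (by norm_num) rfl
  have r23 := rel h (i := 23)
    (r := (Ly.a⁻¹ * Ly.c4 * Ly.a) * ((Ly.c1 * (Ly.c2⁻¹) * (Ly.c3⁻¹) * Ly.c4 * Ly.c1 * Ly.c4)⁻¹))
    (by norm_num) rfl
  have r24 := rel h (i := 24) (r := (Ly.a⁻¹ * Ly.c5 * Ly.a) * ((Ly.c5 ^ 2)⁻¹)) (by norm_num) rfl
  have r25 := rel h (i := 25)
    (r := (Ly.b⁻¹ * Ly.c2 * Ly.b) * ((Ly.c2 * Ly.c3 * (Ly.c4⁻¹) * (Ly.c1⁻¹) * (Ly.c4⁻¹))⁻¹))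
    (by norm_num) rfl
  have r26 := rel h (i := 26)
    (r := (Ly.b⁻¹ * Ly.c3 * Ly.b) * (((Ly.c1 ^ 2) * Ly.c4 * ((Ly.c3 ^ 2)⁻¹))⁻¹)) (by norm_num) rfl
  have r27 := rel h (i := 27) (r := (Ly.b⁻¹ * Ly.c5 * Ly.b) * (Ly.c5⁻¹)) (by norm_num) rfl
  simp only [map_mul, map_inv, map_pow, FreeGroup.lift_apply_of] at r10 r11 r12 r13 r14 r15 r16 r17 r18 r19 r20 r21 r22 r23 r24 r25 r26 r27
  have d12 : (k .c1)⁻¹ * (k .c2)⁻¹ * k .c1 * k .c2 * (k .c5)⁻¹ = 1 := by
    simp only [k, gk, sub5, map_mul, map_inv, FreeGroup.lift_apply_of]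
    group
  have e2 : k .c2 = (k .a)⁻¹ * k .c1 * k .a := by
    simp only [k, gk, sub5, map_mul, map_inv, FreeGroup.lift_apply_of]
  have e3 : k .c3 = (k .b)⁻¹ * k .c1 * k .b := by
    simp only [k, gk, sub5, map_mul, map_inv, FreeGroup.lift_apply_of]
  have e4 : k .c4 = k .b * k .c1 * (k .b)⁻¹ := by
    simp only [k, gk, sub5, map_mul, map_inv, FreeGroup.lift_apply_of]
  have fifth : ∀ s x : G, x ^ 5 = 1 → (s⁻¹ * x * s) ^ 5 = 1 := fun s x hx => by
    have := map_pow (MulAut.conj s⁻¹) x 5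
    rw [hx, map_one, MulAut.conj_apply, inv_inv] at this
    exact this.symm
  have p2 : (k .c2) ^ 5 = 1 := by rw [e2]; exact fifth _ _ r10
  have p3 : (k .c3) ^ 5 = 1 := by rw [e3]; exact fifth _ _ r10
  have p4 : (k .c4) ^ 5 = 1 := by
    rw [e4]; simpa using fifth (k .b)⁻¹ _ r10
  have cen : ∀ {x : G} {T : Set G}, x⁻¹ * (k .c5)⁻¹ * x * k .c5 = 1 → k .c5 ∈ Subgroup.closure T →
      x⁻¹ * k .c5 * x ∈ Subgroup.closure T := fun {x T} e hT => by
    have : x⁻¹ * k .c5 * x = k .c5 := by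
      have e' : (k .c5)⁻¹ * x * k .c5 = x := by
        have := congrArg (x * ·) e
        simpa [mul_assoc] using this
      calc x⁻¹ * k .c5 * x = x⁻¹ * (k .c5 * ((k .c5)⁻¹ * x * k .c5)) := by rw [e', mul_assoc]
        _ = k .c5 := by group
    rw [this]; exact hT
  have mw : ∀ {T : Set G}, k .c5 ∈ Subgroup.closure T →
      ((k .c5) ^ 2)⁻¹ ∈ Subgroup.closure T ∧ (k .c5)⁻¹ ∈ Subgroup.closure T ∧
        (k .c5) ^ 2 ∈ Subgroup.closure T := fun hT => ⟨inv_mem (pow_mem hT 2), inv_mem hT, pow_mem hT 2⟩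
  have m5 : Nat.card (Subgroup.closure ({k .c5} : Set G)) ≤ 5 ∧
      Nat.card (Subgroup.closure ({k .c5} : Set G)) ≠ 0 := by
    rw [← Subgroup.zpowers_eq_closure]; exact HNDouble.card_zpowers_le (by norm_num) r11
  have m1 := card_insert r10 (fun t ht => by
    obtain rfl := ht
    exact cen r12 (Subgroup.subset_closure rfl)) m5
  have m2 := card_insert p2 (fun t ht => by
    have g5 : k .c5 ∈ Subgroup.closure ({k .c1, k .c5} : Set G) := Subgroup.subset_closure (by simp)
    rcases ht with rfl | rfl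
    · exact comm_mem d12 (Subgroup.subset_closure (by simp)) g5
    · exact cen r13 g5) m1
  have m3 := card_insert p3 (fun t ht => by
    have g5 : k .c5 ∈ Subgroup.closure ({k .c2, k .c1, k .c5} : Set G) := Subgroup.subset_closure (by simp)
    rcases ht with rfl | rfl | rfl
    · exact comm_mem r18 (Subgroup.subset_closure (by simp)) (mw g5).2.1
    · exact comm_mem r16 (Subgroup.subset_closure (by simp)) (mw g5).1
    · exact cen r14 g5) m2
  have m4 := card_insert p4 (fun t ht => by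
    have g5 : k .c5 ∈ Subgroup.closure ({k .c3, k .c2, k .c1, k .c5} : Set G) :=
      Subgroup.subset_closure (by simp)
    rcases ht with rfl | rfl | rfl | rfl
    · exact comm_mem r20 (Subgroup.subset_closure (by simp)) (mw g5).2.1
    · exact comm_mem' r19 (Subgroup.subset_closure (by simp))
    · exact comm_mem r17 (Subgroup.subset_closure (by simp)) (mw g5).2.2
    · exact cen r15 g5) m3
  have g1 : k .c1 ∈ C := Subgroup.subset_closure (by simp)
  have g2 : k .c2 ∈ C := Subgroup.subset_closure (by simp)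
  have g3 : k .c3 ∈ C := Subgroup.subset_closure (by simp)
  have g4 : k .c4 ∈ C := Subgroup.subset_closure (by simp)
  have g5 : k .c5 ∈ C := Subgroup.subset_closure (by simp)
  refine ⟨m4, fun x hx => ?_, fun x hx => ?_⟩
  · suffices hT : ∀ t ∈ ({k .c4, k .c3, k .c2, k .c1, k .c5} : Set G),
        (k .a)⁻¹ * t * ((k .a)⁻¹)⁻¹ ∈ C by
      have := conj_closure hT x hx
      rwa [inv_inv] at this
    intro t ht
    rw [inv_inv]
    rcases ht with rfl | rfl | rfl | rfl | rfl
    · rw [mul_inv_eq_one.1 r23]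
      exact mul_mem (mul_mem (mul_mem (mul_mem (mul_mem g1 (inv_mem g2)) (inv_mem g3)) g4) g1) g4
    · rw [mul_inv_eq_one.1 r22]
      exact mul_mem (mul_mem (inv_mem (pow_mem g3 2)) g1) g4
    · rw [mul_inv_eq_one.1 r21]
      exact inv_mem (pow_mem g1 2)
    · exact e2 ▸ g2
    · rw [mul_inv_eq_one.1 r24]
      exact pow_mem g5 2
  · suffices hT : ∀ t ∈ ({k .c4, k .c3, k .c2, k .c1, k .c5} : Set G),
        (k .b)⁻¹ * t * ((k .b)⁻¹)⁻¹ ∈ C by
      have := conj_closure hT x hx
      rwa [inv_inv] at this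
    intro t ht
    rw [inv_inv]
    rcases ht with rfl | rfl | rfl | rfl | rfl
    · rw [show (k .b)⁻¹ * k .c4 * k .b = k .c1 by rw [e4]; group]
      exact g1
    · rw [mul_inv_eq_one.1 r26]
      exact mul_mem (mul_mem (pow_mem g1 2) g4) (inv_mem (pow_mem g3 2))
    · rw [mul_inv_eq_one.1 r25]
      exact mul_mem (mul_mem (mul_mem (mul_mem g2 g3) (inv_mem g4)) (inv_mem g1)) (inv_mem g4)
    · exact e3 ▸ g3
    · rw [mul_inv_eq_one.1 r27]
      exact g5

/-- The order of a group generated by five elements with the relations. -/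
theorem card_range : Nat.card (Subgroup.closure (Set.range f)) ≤ 5859000000 ∧
    Nat.card (Subgroup.closure (Set.range f)) ≠ 0 := by
  obtain ⟨hC, hCa, hCb⟩ := card_C h
  set C := Subgroup.closure ({gk f .c4, gk f .c3, gk f .c2, gk f .c1, gk f .c5} : Set G) with hCdef
  have ka : gk f .a = f .a := by simp [gk, sub5]
  have kb : gk f .b = f .b := by simp [gk, sub5]
  have kc : gk f .c1 = f .c := by simp [gk, sub5]
  have hL : Subgroup.closure {f .a, f .b} = Subgroup.closure {(f .a)⁻¹, (f .b)⁻¹} := by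
    rw [← Subgroup.closure_inv]
    congr 1
    simp [Set.inv_insert]
  have hK := card_extend (K := C) hL (fun s hs x hx => by
    rcases hs with rfl | rfl
    · rw [inv_inv, ← ka]; exact hCa x hx
    · rw [inv_inv, ← kb]; exact hCb x hx) hC (card_L h)
  have hle : Subgroup.closure {f .a, f .b, f .c} ≤ C ⊔ Subgroup.closure {f .a, f .b} := by
    rw [Subgroup.closure_le]
    rintro _ (rfl | rfl | rfl)
    · exact (le_sup_right : _ ≤ C ⊔ _) (Subgroup.subset_closure (Or.inl rfl))
    · exact (le_sup_right : _ ≤ C ⊔ _) (Subgroup.subset_closure (Or.inr rfl))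
    · exact (le_sup_left : C ≤ _) (kc ▸ Subgroup.subset_closure (by simp))
  have hS : Nat.card (Subgroup.closure {f .a, f .b, f .c}) ≤ 3125 * 480 ∧
      Nat.card (Subgroup.closure {f .a, f .b, f .c}) ≠ 0 := by
    have hd := Subgroup.card_dvd_of_le hle
    exact ⟨(Nat.le_of_dvd (Nat.pos_of_ne_zero hK.2) hd).trans hK.1, ne_zero_of_dvd_ne_zero hK.2 hd⟩
  have h1 := (reads_P h).relIndex_le certP_valid (by rw [letters_certP.2.2.2.2.1]; norm_num)
  rw [letters_certP.2.2.2.1, letters_certP.2.2.2.2.1] at h1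
  have hc : Subgroup.closure (g9 f '' Set.Iio 9) = Subgroup.closure (Set.range f) := by
    have m : ∀ x, f x ∈ Subgroup.closure (Set.range f) := fun x => Subgroup.subset_closure ⟨x, rfl⟩
    apply le_antisymm
    · rw [Subgroup.closure_le]
      rintro _ ⟨x, hx, rfl⟩
      match x, hx with
      | 0, _ => exact m _
      | 1, _ => exact inv_mem (m .a)
      | 2, _ => exact m _
      | 3, _ => exact inv_mem (m .b)
      | 4, _ => exact m _
      | 5, _ => exact inv_mem (m .c)
      | 6, _ => exact m _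
      | 7, _ => exact inv_mem (m .d)
      | 8, _ => exact m _
      | k + 9, c => simp at c
    · rw [Subgroup.closure_le]
      rintro _ ⟨x, rfl⟩
      refine Subgroup.subset_closure ?_
      cases x
      · exact ⟨0, by norm_num, rfl⟩
      · exact ⟨2, by norm_num, rfl⟩
      · exact ⟨4, by norm_num, rfl⟩
      · exact ⟨6, by norm_num, rfl⟩
      · exact ⟨8, by norm_num, rfl⟩
  rw [hc] at h1
  have hs : Subgroup.closure {f .a, f .b, f .c} ≤ Subgroup.closure (Set.range f) :=
    Subgroup.closure_mono (by rintro _ (rfl | rfl | rfl) <;> exact ⟨_, rfl⟩)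
  exact card_le_of_relIndex hs h1 hS

end CfsgLib.Sporadic.CosetCert.LyG2Five
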