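import Cfsg.Agent.Lib.Sporadic.LyG2Five.CertPData

/-!
# Coset enumeration certificate LyG2Five.certP, checks 0

Machine-generated data and the kernel checks on it.
-/

set_option maxRecDepth 100000

namespace CfsgLib.Sporadic.CosetCert.LyG2Five

theorem certP_keys0 : certP.keysOK 0 3000 = true := by decide +kernel
theorem certP_keys1 : certP.keysOK 3000 3000 = true := by decide +kernel
theorem certP_keys2 : certP.keysOK 6000 3000 = true := by decide +kernel
theorem certP_keys3 : certP.keysOK 9000 3000 = true := by decide +kernel

end CfsgLib.Sporadic.CosetCert.LyG2Five
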