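import Cfsg.Agent.Lib.Sporadic.LyG2Five.ChevChecks
import Cfsg.Agent.Lib.Sporadic.LyG2Five.Bound
import Mathlib.LinearAlgebra.Matrix.GeneralLinearGroup.Defs

/-!
# Five matrices that generate G₂(5) and satisfy the first 44 relations
-/

set_option autoImplicit false
set_option maxRecDepth 100000

namespace CfsgLib.Sporadic.CosetCert.LyG2Five

open PackedMatrix Cfsg.Spor
open scoped MatrixGroups

attribute [local instance] factPrimeFive

attribute [local irreducible] PackedMatrix.mul PackedMatrix.ok chain PackedMatrix.one dig dec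
  g_a g_ai g_b g_bi g_c g_ci g_d g_di g_e rootMats rootWords genWords

/-- Matrices of degree 14. -/
abbrev M14 : Type := Matrix (Fin 14) (Fin 14) (ZMod 5)

/-- The matrix of packed rows. -/
noncomputable def md14 (A : List ℕ) : M14 := dec 5 14 A

theorem prod14_spec {L : List (List ℕ)} {T : List ℕ} (hL : ∀ B ∈ L, ok 5 14 B = true)
    (h : prod14 L T = true) : (L.map md14).prod = md14 T := by
  obtain ⟨R, hR, -, dR⟩ := chain_spec (p := 5) (n := 14) (by norm_num) (by norm_num) (by norm_num) L hL _ _
    ok14.2.2 h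
  rw [← eqList_spec _ _ hR, dec_one, one_mul] at dR
  exact dR.symm

theorem md14_one : md14 (PackedMatrix.one 14) = 1 := dec_one

theorem ok_lett14 (x : ℕ) : ok 5 14 (lett14 x) = true := by
  by_cases hx : x < 9
  · exact ok14.1 x hx
  · rw [lett14, List.getD_eq_default _ _ (by simpa using hx)]; exact ok14.2.2

theorem ok_root14 (i : ℕ) : ok 5 14 (root14 i) = true := by
  by_cases hi : i < 60
  · exact ok14.2.1 i hi
  · have hl : rootMats.length = 60 := by unfold rootMats; rfl
    rw [root14, List.getD_eq_default _ _ (by omega)]; exact ok14.2.2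

theorem inv14_spec {A B : List ℕ} (hA : ok 5 14 A = true) (hB : ok 5 14 B = true)
    (h : prod14 [A, B] (PackedMatrix.one 14) = true) : md14 A * md14 B = 1 := by
  have := prod14_spec (by simp [hA, hB]) h
  simpa [md14_one] using this

/-- The five matrices. -/
noncomputable def u14 : G5 → M14ˣ
  | .a => ⟨md14 g_a, md14 g_ai, inv14_spec (ok_lett14 0) (ok_lett14 1) inv14.1,
      inv14_spec (ok_lett14 1) (ok_lett14 0) inv14.2.1⟩
  | .b => ⟨md14 g_b, md14 g_bi, inv14_spec (ok_lett14 2) (ok_lett14 3) inv14.2.2.1,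
      inv14_spec (ok_lett14 3) (ok_lett14 2) inv14.2.2.2.1⟩
  | .c => ⟨md14 g_c, md14 g_ci, inv14_spec (ok_lett14 4) (ok_lett14 5) inv14.2.2.2.2.1,
      inv14_spec (ok_lett14 5) (ok_lett14 4) inv14.2.2.2.2.2.1⟩
  | .d => ⟨md14 g_d, md14 g_di, inv14_spec (ok_lett14 6) (ok_lett14 7) inv14.2.2.2.2.2.2.1,
      inv14_spec (ok_lett14 7) (ok_lett14 6) inv14.2.2.2.2.2.2.2.1⟩
  | .e => ⟨md14 g_e, md14 g_e, inv14_spec (ok_lett14 8) (ok_lett14 8) inv14.2.2.2.2.2.2.2.2,
      inv14_spec (ok_lett14 8) (ok_lett14 8) inv14.2.2.2.2.2.2.2.2⟩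

theorem g9_val (x : ℕ) : (g9 u14 x).val = md14 (lett14 x) := by
  match x with
  | 0 => rfl
  | 1 => rfl
  | 2 => rfl
  | 3 => rfl
  | 4 => rfl
  | 5 => rfl
  | 6 => rfl
  | 7 => rfl
  | 8 => rfl
  | k + 9 => exact md14_one.symm

theorem appProd_val {R : Type*} [Monoid R] (g : ℕ → Rˣ) (v : ℕ → R) (h : ∀ x, (g x).val = v x)
    (L : List ℕ) : (appProd g L).val = (L.reverse.map v).prod := by
  induction L with
  | nil => rfl
  | cons x t ih => simp [appProd, ih, h]

theorem u14_word (L : List ℕ) {T : List ℕ} (h : prod14 (L.reverse.map lett14) T = true) :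
    (appProd (g9 u14) L).val = md14 T := by
  rw [appProd_val _ _ g9_val, ← prod14_spec (by
    intro B hB; obtain ⟨x, -, rfl⟩ := List.mem_map.1 hB; exact ok_lett14 x) h, List.map_map]
  rfl

theorem rels_u14 : Rels u14 := by
  intro r hr
  obtain ⟨i, hi, rfl⟩ := List.mem_iff_getElem.1 hr
  rw [List.length_take] at hi
  have hi' : i < 44 := by omega
  rw [List.getElem_take, ← List.getD_eq_getElem _ 1 (by omega),
    lift_eq_appProd u14 (g9 u14) code5 cinv5 (fun x => by cases x <;> rfl)
      (fun x => by cases x <;> first | rfl | exact Units.ext rfl)]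
  exact Units.ext ((u14_word _ (rels14 i hi')).trans md14_one)

/-- Renumber the coordinates. -/
noncomputable def reidx : GL Cfsg.Lie.chevG2.Idx (ZMod 5) ≃* M14ˣ :=
  Units.mapEquiv (Matrix.reindexAlgEquiv (ZMod 5) (ZMod 5) eidx).toMulEquiv

theorem md14_root (r : Fin Cfsg.Lie.chevG2.nroots) (t : ZMod 5) :
    md14 (root14 (5 * r.val + t.val)) =
      Matrix.reindexAlgEquiv (ZMod 5) (ZMod 5) eidx (Cfsg.Lie.chevG2.xMat (ZMod 5) r t) := by
  ext i j
  rw [Matrix.reindexAlgEquiv_apply, Matrix.reindex_apply, Matrix.submatrix_apply]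
  unfold md14 dec
  exact rootEntries r t i j

/-- The element of the five-generator group giving a root element. -/
noncomputable def rootY (r : ℕ) : M14ˣ := appProd (g9 u14) (rootWords.getD r []).reverse

theorem g9_mem {G : Type*} [Group G] (f : G5 → G) (x : ℕ) : g9 f x ∈ Subgroup.closure (Set.range f) := by
  have m : ∀ x, f x ∈ Subgroup.closure (Set.range f) := fun x => Subgroup.subset_closure ⟨x, rfl⟩
  match x with
  | 0 => exact m _
  | 1 => exact inv_mem (m .a)
  | 2 => exact m _
  | 3 => exact inv_mem (m .b)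
  | 4 => exact m _
  | 5 => exact inv_mem (m .c)
  | 6 => exact m _
  | 7 => exact inv_mem (m .d)
  | 8 => exact m _
  | k + 9 => exact one_mem _

theorem appProd_mem {G : Type*} [Group G] {S : Subgroup G} {g : ℕ → G} (h : ∀ x, g x ∈ S) (L : List ℕ) :
    appProd g L ∈ S := by
  induction L with
  | nil => exact one_mem _
  | cons x t ih => exact mul_mem ih (h x)

theorem rootY_pow {r t : ℕ} (hr : r < 12) (ht : t < 5) :
    ((rootY r) ^ t).val = md14 (root14 (5 * r + t)) := by
  rw [Units.val_pow_eq_pow_val, rootY, u14_word _ (T := root14 (5 * r + 1)) (by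
    rw [List.reverse_reverse]; exact rootWord_check r hr)]
  rw [← prod14_spec (fun B hB => (List.eq_of_mem_replicate hB) ▸ ok_root14 _) (rootPowers r hr t ht),
    List.map_replicate, List.prod_replicate]

theorem rootY_mem_group {r t : ℕ} (hr : r < 12) (ht : t < 5) :
    reidx.symm ((rootY r) ^ t) ∈ Cfsg.Lie.chevG2.group (ZMod 5) := by
  refine Subgroup.subset_closure ⟨⟨r, hr⟩, (t : ZMod 5), ?_⟩
  apply (Matrix.reindexAlgEquiv (ZMod 5) (ZMod 5) eidx).injective
  rw [← md14_root, ZMod.val_natCast, Nat.mod_eq_of_lt ht, ← rootY_pow hr ht]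
  exact congrArg Units.val (reidx.apply_symm_apply (rootY r ^ t))

/-- The subgroup generated by the five matrices, renumbered, is the Chevalley group. -/
theorem closure_u14 :
    Subgroup.closure (Set.range fun k => reidx.symm (u14 k)) = Cfsg.Lie.chevG2.group (ZMod 5) := by
  have e : Subgroup.closure (Set.range fun k => reidx.symm (u14 k)) =
      (Subgroup.closure (Set.range u14)).map reidx.symm.toMonoidHom := by
    rw [MonoidHom.map_closure, ← Set.range_comp]; rfl
  apply le_antisymm
  · rw [Subgroup.closure_le]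
    rintro _ ⟨k, rfl⟩
    have H : ∀ (n : ℕ) (w : List ℕ), n < 5 → genWords.getD n [] = w →
        ∀ v : M14ˣ, v.val = md14 (lett14 (2 * n)) → reidx.symm v ∈ Cfsg.Lie.chevG2.group (ZMod 5) := by
      intro n w hn hw v hv
      obtain ⟨hp, hb⟩ := genWord_check n hn
      rw [hw] at hp hb
      have hval : v = (w.map fun i => rootY (i / 5) ^ (i % 5)).prod := by
        apply Units.ext
        rw [hv, ← prod14_spec (fun B hB => by
          obtain ⟨i, -, rfl⟩ := List.mem_map.1 hB; exact ok_root14 i) hp]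
        show _ = Units.coeHom _ (List.prod _)
        rw [map_list_prod, List.map_map, List.map_map]
        refine congrArg _ (List.map_congr_left fun i hi => ?_)
        have hi' : i < 60 := Nat.le_of_ble_eq_true (List.all_eq_true.1 hb i hi)
        simp only [Function.comp_apply, Units.coeHom_apply]
        rw [rootY_pow (by omega) (Nat.mod_lt _ (by norm_num)), Nat.div_add_mod]
      rw [hval, map_list_prod]
      refine list_prod_mem fun g hg => ?_
      rw [List.map_map] at hg
      obtain ⟨i, hi, rfl⟩ := List.mem_map.1 hg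
      have hi' : i < 60 := Nat.le_of_ble_eq_true (List.all_eq_true.1 hb i hi)
      exact rootY_mem_group (by omega) (Nat.mod_lt _ (by norm_num))
    cases k
    · exact H 0 _ (by norm_num) rfl _ rfl
    · exact H 1 _ (by norm_num) rfl _ rfl
    · exact H 2 _ (by norm_num) rfl _ rfl
    · exact H 3 _ (by norm_num) rfl _ rfl
    · exact H 4 _ (by norm_num) rfl _ rfl
  · rw [Cfsg.Lie.ChevalleyDatum.group, Subgroup.closure_le]
    rintro g ⟨r, t, hg⟩
    rw [e, SetLike.mem_coe, Subgroup.mem_map]
    refine ⟨rootY r.val ^ t.val, pow_mem (appProd_mem (g9_mem u14) _) _, ?_⟩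
    rw [MulEquiv.coe_toMonoidHom, MulEquiv.symm_apply_eq]
    apply Units.ext
    rw [rootY_pow r.isLt (ZMod.val_lt t), md14_root]
    exact congrArg _ hg.symm

end CfsgLib.Sporadic.CosetCert.LyG2Five
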