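import Cfsg.Agent.Lib.Sporadic.PackedMatrix
import Cfsg.Agent.Lib.Sporadic.LyG2Five.Subst
import Cfsg.Agent.Lib.Sporadic.LyG2Five.ChevData
import Cfsg.Prelude.Def_ChevG2

/-!
# Kernel checks on the matrices of degree 14
-/

set_option autoImplicit false
set_option maxRecDepth 100000

namespace CfsgLib.Sporadic.CosetCert.LyG2Five

open PackedMatrix Cfsg.Spor

theorem factPrimeFive : Fact (Nat.Prime 5) := ⟨by norm_num⟩

attribute [local instance] factPrimeFive

/-- The matrix of a letter. -/
def lett14 (x : ℕ) : List ℕ :=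
  [g_a, g_ai, g_b, g_bi, g_c, g_ci, g_d, g_di, g_e].getD x (PackedMatrix.one 14)

/-- The matrix of a root element. -/
def root14 (i : ℕ) : List ℕ := rootMats.getD i (PackedMatrix.one 14)

/-- A product of matrices is the given one. -/
noncomputable def prod14 (L : List (List ℕ)) (T : List ℕ) : Bool :=
  chain 5 14 L (eqList T) (PackedMatrix.one 14)

theorem ok14 : (∀ x < 9, ok 5 14 (lett14 x) = true) ∧ (∀ i < 60, ok 5 14 (root14 i) = true) ∧
    ok 5 14 (PackedMatrix.one 14) = true := by decide +kernel

theorem inv14 : prod14 [g_a, g_ai] (PackedMatrix.one 14) = true ∧ prod14 [g_ai, g_a] (PackedMatrix.one 14) = true ∧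
    prod14 [g_b, g_bi] (PackedMatrix.one 14) = true ∧ prod14 [g_bi, g_b] (PackedMatrix.one 14) = true ∧
    prod14 [g_c, g_ci] (PackedMatrix.one 14) = true ∧ prod14 [g_ci, g_c] (PackedMatrix.one 14) = true ∧
    prod14 [g_d, g_di] (PackedMatrix.one 14) = true ∧ prod14 [g_di, g_d] (PackedMatrix.one 14) = true ∧
    prod14 [g_e, g_e] (PackedMatrix.one 14) = true := by decide +kernel

theorem rootPowers : ∀ r < 12, ∀ t < 5,
    prod14 (List.replicate t (root14 (5 * r + 1))) (root14 (5 * r + t)) = true := by decide +kernel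

theorem rootWord_check : ∀ r < 12,
    prod14 ((rootWords.getD r []).map lett14) (root14 (5 * r + 1)) = true := by decide +kernel

theorem genWord_check : ∀ k < 5, prod14 ((genWords.getD k []).map root14) (lett14 (2 * k)) = true ∧
    ((genWords.getD k []).all fun i => Nat.blt i 60) = true := by decide +kernel

theorem rels14 : ∀ i < 44, prod14 ((word5 (Ly.extra.getD i 1)).reverse.map lett14)
    (PackedMatrix.one 14) = true := by decide +kernel

/-- The coordinates of degree 14. -/
def eidx : Cfsg.Lie.chevG2.Idx ≃ Fin 14 := finSumFinEquiv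

theorem rootEntries : ∀ r : Fin Cfsg.Lie.chevG2.nroots, ∀ t : ZMod 5, ∀ i j : Fin 14,
    (dig ((root14 (5 * r.val + t.val)).getD i.val 0) j.val : ZMod 5) =
      Cfsg.Lie.chevG2.xMat (ZMod 5) r t (eidx.symm i) (eidx.symm j) := by decide +kernel

end CfsgLib.Sporadic.CosetCert.LyG2Five
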