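import Cfsg.Agent.Lib.Sporadic.LyG2Five.Chev
import Cfsg.Agent.Lib.Sporadic.LyG2Five.Rep
import Cfsg.Agent.S1055
import Cfsg.Agent.S1059

/-!
# The subgroup generated by `a, b, c, d` of the presented Lyons group is G₂(5)
-/

set_option autoImplicit false
set_option maxRecDepth 100000

namespace CfsgLib.Sporadic.CosetCert.LyG2Five

open Cfsg.Spor
open scoped MatrixGroups

attribute [local instance] factPrimeFive

/-- The presented Lyons group. -/
abbrev LyP : Type := PresentedGroup (coxRelators Ly.edges ∪ {r | r ∈ Ly.extra})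

/-- The five letters in the presented Lyons group. -/
def fLy : G5 → LyP
  | .a => PresentedGroup.of .a
  | .b => PresentedGroup.of .b
  | .c => PresentedGroup.of .c
  | .d => PresentedGroup.of .d
  | .e => PresentedGroup.of .e

theorem lyRel {i : ℕ} {r : FreeGroup Ly.Gen} (hi : i < 86) (e : Ly.extra.getD i 1 = r) :
    FreeGroup.lift (PresentedGroup.of : Ly.Gen → LyP) r = 1 := by
  subst e
  have hl : Ly.extra.length = 86 := rfl
  have hm : PresentedGroup.mk (coxRelators Ly.edges ∪ {r | r ∈ Ly.extra}) (Ly.extra.getD i 1) = 1 :=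
    PresentedGroup.one_of_mem (Or.inr (by
      rw [List.getD_eq_getElem _ _ (by omega)]
      exact List.getElem_mem _))
  have heq : FreeGroup.lift (PresentedGroup.of : Ly.Gen → LyP) =
      PresentedGroup.mk (coxRelators Ly.edges ∪ {r | r ∈ Ly.extra}) := by
    ext x; simp [PresentedGroup.of]
  rw [heq]
  exact hm

theorem gk_fLy : ∀ x ∈ small, gk fLy x = (PresentedGroup.of x : LyP) := by
  have h6 := lyRel (i := 5) (r := Ly.c1 * (Ly.c⁻¹)) (by norm_num) rfl
  have h7 := lyRel (i := 6) (r := Ly.c2 * ((Ly.a⁻¹ * Ly.c * Ly.a)⁻¹)) (by norm_num) rfl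
  have h8 := lyRel (i := 7) (r := Ly.c3 * ((Ly.b⁻¹ * Ly.c * Ly.b)⁻¹)) (by norm_num) rfl
  have h9 := lyRel (i := 8) (r := Ly.c4 * (((Ly.b⁻¹)⁻¹ * Ly.c * (Ly.b⁻¹))⁻¹)) (by norm_num) rfl
  have h10 := lyRel (i := 9) (r := Ly.c5 * ((Ly.c1⁻¹ * Ly.c2⁻¹ * Ly.c1 * Ly.c2)⁻¹)) (by norm_num) rfl
  simp only [map_mul, map_inv, FreeGroup.lift_apply_of] at h6 h7 h8 h9 h10
  rw [mul_inv_eq_one] at h6 h7 h8 h9 h10
  intro x hx
  simp only [small, List.mem_cons, List.not_mem_nil, or_false] at hx
  rcases hx with rfl | rfl | rfl | rfl | rfl | rfl | rfl | rfl | rfl | rfl <;>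
    simp only [gk, sub5, fLy, map_mul, map_inv, FreeGroup.lift_apply_of]
  · exact h6.symm
  · exact h7.symm
  · exact h8.symm
  · rw [h9, inv_inv]
  · rw [h10, h6, h7]; group

theorem rels_fLy : Rels fLy := by
  intro r hr
  refine (lift_lift sub5 fLy r).trans ?_
  rw [show (fun x => FreeGroup.lift fLy (sub5 x)) = gk fLy from rfl, lift_congr_support gk_fLy (List.all_eq_true.1 support44 r hr)]
  obtain ⟨i, hi, rfl⟩ := List.mem_iff_getElem.1 hr
  rw [List.length_take] at hi
  refine lyRel (i := i) (by omega) ?_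
  rw [List.getD_eq_getElem _ _ (by omega), List.getElem_take]

/-- The five letters in both groups. -/
noncomputable def fBoth : G5 → LyP × GL Cfsg.Lie.chevG2.Idx (ZMod 5) := fun k =>
  (fLy k, reidx.symm (u14 k))

theorem lift_comp {α G H : Type*} [Group G] [Group H] (φ : G →* H) (f : α → G) (w : FreeGroup α) :
    φ (FreeGroup.lift f w) = FreeGroup.lift (fun x => φ (f x)) w := by
  have : φ.comp (FreeGroup.lift f) = FreeGroup.lift (fun x => φ (f x)) := by ext x; simp
  exact DFunLike.congr_fun this w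

theorem rels_fBoth : Rels fBoth := by
  intro r hr
  refine Prod.ext ?_ ?_
  · exact (lift_comp (MonoidHom.fst _ _) fBoth _).trans (rels_fLy r hr)
  · refine (lift_comp (MonoidHom.snd _ _) fBoth _).trans ?_
    refine (lift_comp reidx.symm.toMonoidHom u14 _).symm.trans ?_
    rw [rels_u14 r hr, map_one]
    rfl

theorem map_mk_abcd :
    (Subgroup.closure ({Ly.a, Ly.b, Ly.c, Ly.d} : Set (FreeGroup Ly.Gen))).map
        (PresentedGroup.mk (coxRelators Ly.edges ∪ {r | r ∈ Ly.extra})) =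
      Subgroup.closure (Set.range fLy) := by
  rw [MonoidHom.map_closure]
  apply le_antisymm
  · rw [Subgroup.closure_le]
    rintro _ ⟨w, hw, rfl⟩
    rcases hw with rfl | rfl | rfl | rfl
    · exact Subgroup.subset_closure ⟨.a, rfl⟩
    · exact Subgroup.subset_closure ⟨.b, rfl⟩
    · exact Subgroup.subset_closure ⟨.c, rfl⟩
    · exact Subgroup.subset_closure ⟨.d, rfl⟩
  · rw [Subgroup.closure_le]
    rintro _ ⟨k, rfl⟩
    set S := Subgroup.closure (PresentedGroup.mk (coxRelators Ly.edges ∪ {r | r ∈ Ly.extra}) ''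
      ({Ly.a, Ly.b, Ly.c, Ly.d} : Set (FreeGroup Ly.Gen)))
    have ma : fLy .a ∈ S := Subgroup.subset_closure ⟨Ly.a, by simp, rfl⟩
    have mb : fLy .b ∈ S := Subgroup.subset_closure ⟨Ly.b, by simp, rfl⟩
    have mc : fLy .c ∈ S := Subgroup.subset_closure ⟨Ly.c, by simp, rfl⟩
    have md : fLy .d ∈ S := Subgroup.subset_closure ⟨Ly.d, by simp, rfl⟩
    cases k
    · exact ma
    · exact mb
    · exact mc
    · exact md
    · have h29 := lyRel (i := 28) (r := Ly.e * ((((Ly.b ^ 2)⁻¹) * (Ly.a⁻¹ * Ly.c1⁻¹ * Ly.a * Ly.c1) *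
        (Ly.a⁻¹) * Ly.c1 * Ly.a * Ly.d * Ly.c1 * Ly.b * Ly.a * (Ly.b⁻¹) * Ly.d * Ly.c1 * Ly.d)⁻¹))
        (by norm_num) rfl
      simp only [map_mul, map_inv, map_pow, FreeGroup.lift_apply_of] at h29
      rw [mul_inv_eq_one, ← gk_fLy .c1 (by simp [small])] at h29
      show (PresentedGroup.of Ly.Gen.e : LyP) ∈ S
      rw [h29]
      simp only [gk, sub5, FreeGroup.lift_apply_of]
      exact (mul_mem (mul_mem (mul_mem (mul_mem (mul_mem (mul_mem (mul_mem (mul_mem (mul_mem (mul_mem
        (mul_mem (mul_mem (inv_mem (pow_mem mb 2))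
          (mul_mem (mul_mem (mul_mem (inv_mem ma) (inv_mem mc)) ma) mc)) (inv_mem ma)) mc) ma) md) mc) mb)
            ma) (inv_mem mb)) md) mc) md)

theorem main : Nonempty
    ((Subgroup.closure ({Ly.a, Ly.b, Ly.c, Ly.d} : Set (FreeGroup Ly.Gen))).map
        (PresentedGroup.mk (coxRelators Ly.edges ∪ {r | r ∈ Ly.extra})) ≃*
      Cfsg.Lie.chevG2.group (ZMod 5)) := by
  set N := Cfsg.Lie.chevG2.group (ZMod 5) with hN
  set E := Subgroup.closure (Set.range fBoth) with hEdef
  have hcard : Nat.card N = 5859000000 := by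
    rw [hN, Cfsg.Agent.S1059.result (ZMod.card 5)]
    norm_num
  obtain ⟨hE, hE0⟩ := card_range rels_fBoth
  have : Finite E := Nat.finite_of_card_ne_zero hE0
  have hsnd : E.map (MonoidHom.snd LyP (GL Cfsg.Lie.chevG2.Idx (ZMod 5))) = N := by
    rw [hEdef, MonoidHom.map_closure, ← Set.range_comp, hN, ← closure_u14]; rfl
  have hfst : E.map (MonoidHom.fst LyP (GL Cfsg.Lie.chevG2.Idx (ZMod 5))) = Subgroup.closure (Set.range fLy) := by
    rw [hEdef, MonoidHom.map_closure, ← Set.range_comp]; rfl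
  let π : E →* N := ((MonoidHom.snd _ _).comp E.subtype).codRestrict N
    (fun x => hsnd ▸ Subgroup.mem_map_of_mem _ x.2)
  have hπs : Function.Surjective π := by
    rintro ⟨y, hy⟩
    rw [← hsnd] at hy
    obtain ⟨x, hx, rfl⟩ := hy
    exact ⟨⟨x, hx⟩, rfl⟩
  have hπ : Function.Bijective π :=
    hπs.bijective_of_nat_card_le (by rw [hcard]; exact hE)
  let ρ : E →* LyP := (MonoidHom.fst _ _).comp E.subtype
  let φ : N →* LyP := ρ.comp (MulEquiv.ofBijective π hπ).symm.toMonoidHom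
  have : IsSimpleGroup N := (Cfsg.Agent.S1055.result (F := ZMod 5) ⟨2, by decide, by decide⟩).1
  have hk : φ.ker ≠ ⊤ := by
    intro hk
    let x : E := ⟨fBoth .a, Subgroup.subset_closure ⟨.a, rfl⟩⟩
    have hx : π x ∈ φ.ker := by rw [hk]; exact Subgroup.mem_top _
    rw [MonoidHom.mem_ker] at hx
    have hx2 : ρ x = 1 := by
      have : (MulEquiv.ofBijective π hπ).symm (π x) = x := (MulEquiv.ofBijective π hπ).symm_apply_apply x
      simpa [φ, this] using hx
    exact a_ne_one hx2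
  have hinj : Function.Injective φ := by
    rw [← MonoidHom.ker_eq_bot_iff]
    exact (Subgroup.Normal.eq_bot_or_eq_top (MonoidHom.normal_ker φ)).resolve_right hk
  have hr : φ.range = Subgroup.closure (Set.range fLy) := by
    rw [MonoidHom.range_comp, MonoidHom.range_eq_top.2 (MulEquiv.surjective _), ← MonoidHom.range_eq_map,
      MonoidHom.range_comp, Subgroup.range_subtype, hfst]
  exact ⟨((MulEquiv.subgroupCongr (map_mk_abcd.trans hr.symm)).trans (MonoidHom.ofInjective hinj).symm)⟩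

end CfsgLib.Sporadic.CosetCert.LyG2Five
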