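import Cfsg.Agent.Lib.Sporadic.WideMatrix
import Cfsg.Agent.Lib.Sporadic.LyG2Five.Subst
import Cfsg.Agent.Lib.Sporadic.LyG2Five.MatData0
import Cfsg.Agent.Lib.Sporadic.LyG2Five.MatData1

/-!
# Checks on the matrices of degree 111
-/

set_option autoImplicit false
set_option maxRecDepth 100000

namespace CfsgLib.Sporadic.CosetCert.LyG2Five

open WideMatrix Cfsg.Spor

/-- The identity as packed rows. -/
def idRows : List ℕ := (List.range 111).map fun i => B ^ i

/-- The matrix of a letter. -/
def lett111 (x : ℕ) : List ℕ :=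
  [m_a, m_ai, m_b, m_bi, m_c, m_ci, m_d, m_di, m_e, m_z, m_zi, m_c5, m_c5i].getD x idRows

/-- A product of matrices is one. -/
noncomputable def isOne111 (L : List (List ℕ)) : Bool := isOne 111 L

/-- The relations with numbers in a range hold. -/
def RelsOn (lo hi : ℕ) : Prop :=
  ∀ i < hi - lo, isOne111 ((word7 (Ly.extra.getD (lo + i) 1)).reverse.map lett111) = true

theorem ok111 : ∀ x < 13, okRows 111 (lett111 x) = true := by
  decide +kernel

theorem inv111 : isOne111 [m_a, m_ai] = true ∧ isOne111 [m_ai, m_a] = true ∧ isOne111 [m_b, m_bi] = true ∧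
    isOne111 [m_bi, m_b] = true ∧ isOne111 [m_c, m_ci] = true ∧ isOne111 [m_ci, m_c] = true ∧
    isOne111 [m_d, m_di] = true ∧ isOne111 [m_di, m_d] = true ∧ isOne111 [m_e, m_e] = true ∧
    isOne111 [m_z, m_zi] = true ∧ isOne111 [m_zi, m_z] = true ∧ isOne111 [m_c5, m_c5i] = true ∧
    isOne111 [m_c5i, m_c5] = true := by decide +kernel

theorem idRows_spec : okRows 111 idRows = true ∧
    ∀ i j : Fin 111, lane (idRows.getD i 0) j = if i = j then 1 else 0 := by decide +kernel

theorem a_entry : lane ((lett111 0).getD 0 0) 1 = 3 := by decide +kernel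

end CfsgLib.Sporadic.CosetCert.LyG2Five
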