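import Cfsg.Agent.Lib.Sporadic.LyG2Five.MatBase

/-!
# Relations 0 to 25 for the matrices of degree 111
-/

set_option autoImplicit false
set_option maxRecDepth 100000

namespace CfsgLib.Sporadic.CosetCert.LyG2Five

theorem relsOn0 : RelsOn 0 25 := by
  unfold RelsOn
  decide +kernel

end CfsgLib.Sporadic.CosetCert.LyG2Five
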